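import Mathlib
import Groth.Agent.LocalCrit.Basic

/-!
# Fibrewise criterion of projectivity for finitely presented modules flat over the base
-/

universe u

set_option linter.style.haveILetI false

open TensorProduct

namespace Groth.Agent.FlatRes

/-- A finitely presented module over a local ring, flat over the base, with free fibre is free. -/
theorem free_of_fibre_free {A S N : Type u} [CommRing A] [CommRing S] [IsLocalRing S] [Algebra A S]
    [AddCommGroup N] [Module S N] [Module A N] [IsScalarTower A S N] [Module.FinitePresentation S N]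
    [Module.Flat A N] (p : Ideal A) (hp : p.map (algebraMap A S) ≤ IsLocalRing.maximalIdeal S)
    (h : Module.Free (S ⧸ p.map (algebraMap A S)) ((S ⧸ p.map (algebraMap A S)) ⊗[S] N)) :
    Module.Free S N := by
  classical
  set 𝔞 := p.map (algebraMap A S)
  have hjac : 𝔞 ≤ Ideal.jacobson ⊥ := by
    rw [IsLocalRing.jacobson_eq_maximalIdeal (⊥ : Ideal S) bot_ne_top]; exact hp
  haveI : Nontrivial (S ⧸ 𝔞) :=
    Ideal.Quotient.nontrivial_iff.2 fun e => (IsLocalRing.maximalIdeal.isMaximal S).ne_top (top_le_iff.1 (e ▸ hp))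
  let b := Module.Free.chooseBasis (S ⧸ 𝔞) ((S ⧸ 𝔞) ⊗[S] N)
  haveI := Module.Free.ChooseBasisIndex.fintype (S ⧸ 𝔞) ((S ⧸ 𝔞) ⊗[S] N)
  choose v hv using fun i => LocalCrit.exists_one_tmul 𝔞 (b i)
  let ι := Module.Free.ChooseBasisIndex (S ⧸ 𝔞) ((S ⧸ 𝔞) ⊗[S] N)
  let g := Fintype.linearCombination S v
  have hgb : ∀ x, (1 : S ⧸ 𝔞) ⊗ₜ[S] g x = ∑ i, Ideal.Quotient.mk 𝔞 (x i) • b i := by
    intro x
    simp only [g, Fintype.linearCombination_apply, tmul_sum, tmul_smul]
    refine Finset.sum_congr rfl fun i _ => ?_
    rw [← hv i, ← Ideal.Quotient.algebraMap_eq, algebraMap_smul]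
  have hsurj : Function.Surjective g := by
    rw [← LinearMap.range_eq_top]
    refine top_le_iff.1 (Submodule.le_of_le_smul_of_le_jacobson_bot (I := 𝔞) Module.Finite.fg_top hjac fun x _ => ?_)
    choose c hc using fun i => Ideal.Quotient.mk_surjective (b.repr ((1 : S ⧸ 𝔞) ⊗ₜ[S] x) i)
    have hd : x - g c ∈ 𝔞 • (⊤ : Submodule S N) := by
      rw [← LocalCrit.one_tmul_eq_zero_iff, tmul_sub, hgb]
      simp only [hc]
      rw [b.sum_repr, sub_self]
    rw [← sub_add_cancel x (g c)]
    exact add_mem (Submodule.mem_sup_right hd) (Submodule.mem_sup_left ⟨c, rfl⟩)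
  have hfg := Module.FinitePresentation.fg_ker g hsurj
  have hker : LinearMap.ker g = ⊥ := by
    refine Submodule.eq_bot_of_le_smul_of_le_jacobson_bot 𝔞 _ hfg (fun x hx => ?_) hjac
    have hx' : x ∈ 𝔞 • (⊤ : Submodule S (ι → S)) := by
      have h0 : ∑ i, Ideal.Quotient.mk 𝔞 (x i) • b i = 0 := by
        rw [← hgb, LinearMap.mem_ker.mp hx, tmul_zero]
      have hxi : ∀ i, x i ∈ 𝔞 := fun i =>
        Ideal.Quotient.eq_zero_iff_mem.mp (Fintype.linearIndependent_iff.mp b.linearIndependent _ h0 i)
      rw [pi_eq_sum_univ' x]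
      exact Submodule.sum_mem _ fun i _ => Submodule.smul_mem_smul (hxi i) trivial
    let K := LinearMap.ker g
    have h1 : x ∈ p • (⊤ : Submodule A (ι → S)) := by
      have : (p • (⊤ : Submodule A (ι → S))) = (𝔞 • (⊤ : Submodule S (ι → S))).restrictScalars A := by
        rw [Ideal.smul_restrictScalars, Submodule.restrictScalars_top]
      rw [this]
      exact hx'
    have h2 := LocalCrit.mem_smul_of_map_mem_of_mulMap_injective (R := A) (K.subtype.restrictScalars A)
      (Submodule.injective_subtype K) (g.restrictScalars A) hsurj (LinearMap.exact_subtype_ker_map g) p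
      (LocalCrit.mulMap_injective p) (x := ⟨x, hx⟩) h1
    have h3 : (⟨x, hx⟩ : K) ∈ (𝔞 • (⊤ : Submodule S K)).restrictScalars A := by
      rw [Ideal.smul_restrictScalars, Submodule.restrictScalars_top]
      exact h2
    have h4 := Submodule.mem_map_of_mem (f := K.subtype) h3
    rwa [Submodule.map_smul'', Submodule.map_top, Submodule.range_subtype] at h4
  exact Module.Free.of_equiv (LinearEquiv.ofBijective g ⟨LinearMap.ker_eq_bot.mp hker, hsurj⟩)

/-- `S ⊗_B M` is flat over `A` if `S` is flat over `B` and `M` is flat over `A`. -/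
theorem flat_tensor {A B S M : Type u} [CommRing A] [CommRing B] [CommRing S] [Algebra A B] [Algebra B S]
    [Algebra A S] [IsScalarTower A B S] [AddCommGroup M] [Module B M] [Module A M] [IsScalarTower A B M]
    [Module.Flat A M] [Module.Flat B S] : Module.Flat A (S ⊗[B] M) := by
  rw [Module.Flat.iff_lTensor_preserves_injective_linearMap]
  intro X Y _ _ _ _ f hf
  let e : ∀ (Z : Type u) [AddCommGroup Z] [Module A Z],
      (S ⊗[B] M) ⊗[A] Z ≃ₗ[B] S ⊗[B] (M ⊗[A] Z) := fun Z _ _ => AlgebraTensorModule.assoc A B B S M Z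
  have h1 : Function.Injective ((AlgebraTensorModule.lTensor B M f).lTensor S) :=
    Module.Flat.lTensor_preserves_injective_linearMap _ (Module.Flat.lTensor_preserves_injective_linearMap f hf)
  have hc : ∀ z, e Y (f.lTensor (S ⊗[B] M) z) = (AlgebraTensorModule.lTensor B M f).lTensor S (e X z) := by
    intro z
    induction z with
    | zero => simp
    | tmul a x =>
      induction a with
      | zero => simp
      | tmul s m => simp [e]
      | add a b ha hb => simp only [add_tmul, map_add, ha, hb]
    | add a b ha hb => simp only [map_add, ha, hb]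
  intro a b hab
  exact (e X).injective (h1 (by rw [← hc, ← hc, hab]))

/-- A finitely presented module flat over the base with projective fibres is flat. -/
theorem flat_of_fibre_projective {A B M : Type u} [CommRing A] [CommRing B] [Algebra A B]
    [AddCommGroup M] [Module B M] [Module A M] [IsScalarTower A B M] [Module.FinitePresentation B M]
    [Module.Flat A M]
    (h : ∀ (p : Ideal A) [p.IsPrime],
      Module.Projective (B ⊗[A] p.ResidueField) ((B ⊗[A] p.ResidueField) ⊗[B] M)) : Module.Flat B M := by
  refine Module.flat_of_localized_maximal (R := B) M fun q _ => ?_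
  let S := Localization.AtPrime q
  let p := q.comap (algebraMap A B)
  haveI : p.IsPrime := Ideal.IsPrime.comap _
  let N := LocalizedModule q.primeCompl M
  haveI : Module.FinitePresentation S N := inferInstance
  haveI : IsScalarTower A S N := IsScalarTower.of_algebraMap_smul fun a x => by
    rw [IsScalarTower.algebraMap_apply A B S, algebraMap_smul, algebraMap_smul]
  haveI : Module.Flat A N := by
    haveI : Module.Flat B S := IsLocalization.flat S q.primeCompl
    haveI : Module.Flat A (S ⊗[B] M) := flat_tensor
    exact Module.Flat.of_linearEquiv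
      (((isLocalizedModule_iff_isBaseChange q.primeCompl S
        (LocalizedModule.mkLinearMap q.primeCompl M)).mp inferInstance).equiv.symm.restrictScalars A)
  have hp : p.map (algebraMap A S) ≤ IsLocalRing.maximalIdeal S := by
    rw [Ideal.map_le_iff_le_comap, IsScalarTower.algebraMap_eq A B S, ← Ideal.comap_comap]
    exact Ideal.comap_mono (le_of_eq (IsLocalization.AtPrime.under_maximalIdeal S q).symm)
  let T := S ⧸ p.map (algebraMap A S)
  -- the fibre maps to `T`
  have hunit : ∀ a : p.primeCompl, IsUnit (algebraMap A T a) := by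
    intro a
    rw [IsScalarTower.algebraMap_apply A S T]
    refine IsUnit.map (algebraMap S T) ?_
    rw [IsScalarTower.algebraMap_apply A B S]
    exact IsLocalization.map_units S (⟨algebraMap A B a, a.2⟩ : q.primeCompl)
  have hp0 : p ≤ RingHom.ker (algebraMap A T) := fun a ha => by
    rw [RingHom.mem_ker, IsScalarTower.algebraMap_apply A S T, Ideal.Quotient.algebraMap_eq,
      Ideal.Quotient.eq_zero_iff_mem]
    exact Ideal.mem_map_of_mem _ ha
  let κT : p.ResidueField →ₐ[A] T := Ideal.ResidueField.liftₐ p (Algebra.ofId A T) hp0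
    (fun a ha => hunit ⟨a, ha⟩)
  let F := B ⊗[A] p.ResidueField
  let φ : F →ₐ[B] T := Algebra.TensorProduct.lift (Algebra.ofId B T) κT (fun _ _ => Commute.all _ _)
  letI := φ.toRingHom.toAlgebra
  haveI : IsScalarTower B F T := IsScalarTower.of_algebraMap_eq fun b => (φ.commutes b).symm
  haveI := h p
  haveI : Module.Projective T (T ⊗[B] M) := Module.Projective.of_equiv
    (AlgebraTensorModule.cancelBaseChange B F T T M)
  haveI : Nontrivial T := Ideal.Quotient.nontrivial_iff.2
    fun e => (IsLocalRing.maximalIdeal.isMaximal S).ne_top (top_le_iff.1 (e ▸ hp))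
  haveI : IsLocalRing T := IsLocalRing.of_surjective' (Ideal.Quotient.mk _) Ideal.Quotient.mk_surjective
  haveI : Module.Free T (T ⊗[B] M) := Module.free_of_flat_of_isLocalRing
  have e : T ⊗[S] N ≃ₗ[T] T ⊗[B] M :=
    (AlgebraTensorModule.congr (LinearEquiv.refl T T)
      ((isLocalizedModule_iff_isBaseChange q.primeCompl S
        (LocalizedModule.mkLinearMap q.primeCompl M)).mp inferInstance).equiv.symm).trans
      (AlgebraTensorModule.cancelBaseChange B S T T M)
  haveI := free_of_fibre_free (A := A) (S := S) (N := N) p hp (Module.Free.of_equiv e.symm)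
  exact Module.Flat.trans B S N

end Groth.Agent.FlatRes
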