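import Mathlib
import Groth.Agent.FlatSpread.Fp
import Groth.Agent.ArtFlat.Basic

/-!
# Syzygies of flat finitely presented modules over finitely presented algebras are finitely presented
-/

universe u

set_option linter.style.haveILetI false

open TensorProduct MvPolynomial Groth.Agent.FlatSpread

namespace Groth.Agent.FlatRes

/-- Tensoring keeps exactness at the source of a map with flat cokernel. -/
theorem mem_range_of_lTensor_eq_zero {R₀ : Type u} [CommRing R₀] (N : Type u) [AddCommGroup N] [Module R₀ N]
    {X F : Type u} [AddCommGroup X] [Module R₀ X] [AddCommGroup F] [Module R₀ F] (f : X →ₗ[R₀] F)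
    [Module.Flat R₀ (F ⧸ LinearMap.range f)] (y : N ⊗[R₀] X) (hy : f.lTensor N y = 0) :
    y ∈ LinearMap.range ((LinearMap.ker f).subtype.lTensor N) := by
  have hinj := LinearMap.lTensor_injective_of_exact_of_flat (LinearMap.range f).mkQ
    (Submodule.mkQ_surjective _) (LinearMap.range f).subtype (Submodule.injective_subtype _)
    (LinearMap.exact_subtype_mkQ _) N
  have h2 : f.rangeRestrict.lTensor N y = 0 := hinj (by
    rw [map_zero, ← hy, ← LinearMap.comp_apply, ← LinearMap.lTensor_comp, LinearMap.subtype_comp_codRestrict])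
  have hex : Function.Exact (LinearMap.ker f).subtype f.rangeRestrict := by
    rw [LinearMap.exact_iff, LinearMap.ker_rangeRestrict, Submodule.range_subtype]
  exact (lTensor_exact N hex f.surjective_rangeRestrict y).mp h2

/-- Over a polynomial ring: the relation module of a flat finitely presented quotient is finitely presented. -/
theorem finitePresentation_of_flat_quotient {R : Type u} [CommRing R] {k n : ℕ}
    (W : Submodule (MvPolynomial (Fin k) R) (Fin n → MvPolynomial (Fin k) R)) (hW : W.FG)
    [Module.Flat R ((Fin n → MvPolynomial (Fin k) R) ⧸ W)] :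
    Module.FinitePresentation (MvPolynomial (Fin k) R) W := by
  classical
  haveI : IsLocalizedModule (⊥ : Submonoid (MvPolynomial (Fin k) R))
      (LinearMap.id : ((Fin n → MvPolynomial (Fin k) R) ⧸ W) →ₗ[MvPolynomial (Fin k) R] _) :=
    ⟨fun x => by rw [Submonoid.mem_bot.1 x.2, map_one]; exact isUnit_one, fun y => ⟨(y, 1), by simp⟩,
      fun h => ⟨1, by simpa using h⟩⟩
  haveI : Module.Flat R (LocalizedModule (⊥ : Submonoid (MvPolynomial (Fin k) R))
      ((Fin n → MvPolynomial (Fin k) R) ⧸ W)) :=
    Module.Flat.of_linearEquiv ((IsLocalizedModule.iso (⊥ : Submonoid (MvPolynomial (Fin k) R))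
      (LinearMap.id : ((Fin n → MvPolynomial (Fin k) R) ⧸ W) →ₗ[MvPolynomial (Fin k) R] _)).restrictScalars R)
  obtain ⟨R₀, _, φ, hft, hφ, W₀, g₀, hext, hg₀, hfl⟩ := exists_model_fl hW (fl_of_flat ⊥ W)
  letI : Algebra R₀ R := φ.toAlgebra
  haveI : IsNoetherianRing R₀ := Algebra.FiniteType.isNoetherianRing ℤ R₀
  have hfl' : Fl (⊥ : Ideal R₀) (⊥ : Submonoid (MvPolynomial (Fin k) R₀)) W₀ := by
    refine hfl.mono_monoid fun s hs => ⟨1, Submonoid.one_mem _, ?_⟩
    obtain ⟨i, rfl⟩ := hs
    have : g₀ = 1 := MvPolynomial.map_injective φ hφ (by rw [map_one]; exact Submonoid.mem_bot.1 hg₀)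
    simp [this]
  haveI : Module.Flat R₀ ((Fin n → MvPolynomial (Fin k) R₀) ⧸ W₀) := by
    haveI : IsLocalizedModule (⊥ : Submonoid (MvPolynomial (Fin k) R₀))
        (LinearMap.id : ((Fin n → MvPolynomial (Fin k) R₀) ⧸ W₀) →ₗ[MvPolynomial (Fin k) R₀] _) :=
      ⟨fun x => by rw [Submonoid.mem_bot.1 x.2, map_one]; exact isUnit_one, fun y => ⟨(y, 1), by simp⟩,
        fun h => ⟨1, by simpa using h⟩⟩
    haveI := flat_of_fl ⊥ W₀ hfl'
    exact Module.Flat.of_linearEquiv ((IsLocalizedModule.iso (⊥ : Submonoid (MvPolynomial (Fin k) R₀))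
      (LinearMap.id : ((Fin n → MvPolynomial (Fin k) R₀) ⧸ W₀) →ₗ[MvPolynomial (Fin k) R₀] _)).symm.restrictScalars R₀)
  obtain ⟨c, w, hw⟩ := Submodule.fg_iff_exists_fin_generating_family.mp
    (IsNoetherian.noetherian W₀ : W₀.FG)
  -- the presentation downstairs and upstairs
  let p₀ : (Fin c → MvPolynomial (Fin k) R₀) →ₗ[MvPolynomial (Fin k) R₀] (Fin n → MvPolynomial (Fin k) R₀) :=
    Fintype.linearCombination _ w
  let p : (Fin c → MvPolynomial (Fin k) R) →ₗ[MvPolynomial (Fin k) R] (Fin n → MvPolynomial (Fin k) R) :=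
    Fintype.linearCombination _ fun i => kL φ (w i)
  have hp₀ : LinearMap.range p₀ = W₀ := by rw [Fintype.range_linearCombination, hw]
  have hp : LinearMap.range p = W := by
    rw [Fintype.range_linearCombination, ← hext]
    refine le_antisymm (Submodule.span_le.mpr ?_) (Submodule.span_le.mpr ?_)
    · rintro _ ⟨i, rfl⟩
      exact kL_mem_ext φ (hw ▸ Submodule.subset_span ⟨i, rfl⟩)
    · rintro _ ⟨x, hx, rfl⟩
      change x ∈ W₀ at hx
      rw [← hw] at hx
      induction hx using Submodule.span_induction with
      | mem x hx => obtain ⟨i, rfl⟩ := hx; exact Submodule.subset_span ⟨i, rfl⟩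
      | zero => rw [map_zero]; exact Submodule.zero_mem _
      | add x y _ _ hx hy => rw [map_add]; exact Submodule.add_mem _ hx hy
      | smul a x _ hx => rw [LinearMap.map_smulₛₗ]; exact Submodule.smul_mem _ _ hx
  let Ψ : ∀ m : ℕ, R ⊗[R₀] (Fin m → MvPolynomial (Fin k) R₀) ≃ₗ[R] (Fin m → MvPolynomial (Fin k) R) := fun m =>
    (TensorProduct.piRight R₀ R R fun _ : Fin m => MvPolynomial (Fin k) R₀).trans
      (LinearEquiv.piCongrRight fun _ => (MvPolynomial.algebraTensorAlgEquiv R₀ R).toLinearEquiv)
  have hΨ : ∀ m (r : R) (x : Fin m → MvPolynomial (Fin k) R₀), Ψ m (r ⊗ₜ x) = r • kL φ x := by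
    intro m r x
    funext j
    simp [Ψ, kL, RingHom.algebraMap_toAlgebra]
  have hcomm : ∀ y, p (Ψ c y) = Ψ n ((p₀.restrictScalars R₀).lTensor R y) := by
    intro y
    induction y with
    | zero => simp
    | tmul r x =>
      rw [LinearMap.lTensor_tmul, hΨ, hΨ, LinearMap.map_smul_of_tower]
      congr 1
      simp only [p, p₀, Fintype.linearCombination_apply, LinearMap.coe_restrictScalars, map_sum,
        LinearMap.map_smulₛₗ]
      rfl
    | add a b ha hb => simp only [map_add, ha, hb]
  have hker : (LinearMap.ker p).FG := by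
    obtain ⟨s, hs⟩ := (IsNoetherian.noetherian (LinearMap.ker p₀) : (LinearMap.ker p₀).FG)
    refine ⟨s.image (kL φ), ?_⟩
    rw [Finset.coe_image]
    refine le_antisymm (Submodule.span_le.mpr ?_) fun z hz => ?_
    · rintro _ ⟨x, hx, rfl⟩
      have hx0 : p₀ x = 0 := LinearMap.mem_ker.mp (hs ▸ Submodule.subset_span hx)
      have := hcomm (1 ⊗ₜ x)
      rw [hΨ, one_smul, LinearMap.lTensor_tmul, LinearMap.coe_restrictScalars, hx0, tmul_zero, map_zero] at this
      exact this
    · haveI : Module.Flat R₀ ((Fin n → MvPolynomial (Fin k) R₀) ⧸ LinearMap.range (p₀.restrictScalars R₀)) := by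
        haveI : Module.Flat R₀ ((Fin n → MvPolynomial (Fin k) R₀) ⧸ W₀.restrictScalars R₀) :=
          Module.Flat.of_linearEquiv (Submodule.Quotient.restrictScalarsEquiv R₀ W₀)
        exact Module.Flat.of_linearEquiv
          (Submodule.quotEquivOfEq _ _ (by rw [LinearMap.range_restrictScalars, hp₀]))
      obtain ⟨y, rfl⟩ := (Ψ c).surjective z
      have h1 : (p₀.restrictScalars R₀).lTensor R y = 0 := (Ψ n).injective (by
        rw [← hcomm, map_zero]; exact LinearMap.mem_ker.mp hz)
      obtain ⟨t, rfl⟩ := mem_range_of_lTensor_eq_zero R (p₀.restrictScalars R₀) y h1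
      clear hz h1
      induction t with
      | zero => rw [map_zero, map_zero]; exact Submodule.zero_mem _
      | add a b ha hb => simp only [map_add]; exact Submodule.add_mem _ ha hb
      | tmul r x =>
        rw [LinearMap.lTensor_tmul, hΨ]
        refine Submodule.smul_of_tower_mem _ r ?_
        obtain ⟨x, hx'⟩ := x
        change kL φ x ∈ _
        have hx : x ∈ LinearMap.ker p₀ := hx'
        clear hx'
        rw [← hs] at hx
        induction hx using Submodule.span_induction with
        | mem x hx => exact Submodule.subset_span ⟨x, hx, rfl⟩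
        | zero => rw [map_zero]; exact Submodule.zero_mem _
        | add x y _ _ hx hy => rw [map_add]; exact Submodule.add_mem _ hx hy
        | smul a x _ hx => rw [LinearMap.map_smulₛₗ]; exact Submodule.smul_mem _ _ hx
  have : Module.FinitePresentation (MvPolynomial (Fin k) R) (LinearMap.range p) :=
    Module.finitePresentation_of_surjective p.rangeRestrict p.surjective_rangeRestrict
      (by rw [LinearMap.ker_rangeRestrict]; exact hker)
  rwa [hp] at this

/-- If `M` is a flat finitely presented module over a finitely presented algebra `B`, then the kernel of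
any surjection `B^n → M` is finitely presented. -/
theorem finitePresentation_ker {A B M : Type u} [CommRing A] [CommRing B] [Algebra A B]
    [Algebra.FinitePresentation A B] [AddCommGroup M] [Module B M] [Module A M] [IsScalarTower A B M]
    [Module.FinitePresentation B M] [Module.Flat A M] {n : ℕ} (g : (Fin n → B) →ₗ[B] M)
    (hg : Function.Surjective g) : Module.FinitePresentation B (LinearMap.ker g) := by
  classical
  obtain ⟨k, π, hπ, hker⟩ := Algebra.FinitePresentation.out (R := A) (A := B)
  let P := MvPolynomial (Fin k) A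
  letI : Algebra P B := π.toRingHom.toAlgebra
  letI : Module P M := Module.compHom M π.toRingHom
  haveI : IsScalarTower P B M := IsScalarTower.of_compHom P B M
  haveI : IsScalarTower A P M := ⟨fun a p m => by
    change π (a • p) • m = a • π p • m
    rw [map_smul, smul_assoc]⟩
  haveI : Module.Finite P B := Module.Finite.of_surjective (Algebra.linearMap P B) hπ
  haveI : Module.FinitePresentation P B :=
    Module.finitePresentation_of_surjective (Algebra.linearMap P B) hπ hker
  haveI : Module.FinitePresentation P M := Module.FinitePresentation.trans P M B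
  haveI : Module.FinitePresentation P (Fin n → B) := Module.FinitePresentation.trans P (Fin n → B) B
  let ρ : (Fin n → P) →ₗ[P] (Fin n → B) := LinearMap.piMap fun _ => Algebra.linearMap P B
  have hρ : Function.Surjective ρ := Function.Surjective.piMap fun _ => hπ
  let g' := (g.restrictScalars P) ∘ₗ ρ
  have hg' : Function.Surjective g' := hg.comp hρ
  haveI : Module.Flat A ((Fin n → P) ⧸ LinearMap.ker g') :=
    Module.Flat.of_linearEquiv ((g'.quotKerEquivOfSurjective hg').restrictScalars A)
  haveI : Module.FinitePresentation P (LinearMap.ker g') :=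
    finitePresentation_of_flat_quotient _ (Module.FinitePresentation.fg_ker g' hg')
  let q : LinearMap.ker g' →ₗ[P] LinearMap.ker (g.restrictScalars P) :=
    ρ.restrict fun x hx => hx
  have hq : Function.Surjective q := by
    rintro ⟨y, hy⟩
    obtain ⟨x, rfl⟩ := hρ y
    exact ⟨⟨x, hy⟩, rfl⟩
  haveI : Module.FinitePresentation P (LinearMap.ker (g.restrictScalars P)) := by
    refine Module.finitePresentation_of_surjective q hq (Submodule.fg_of_fg_map_injective
      (LinearMap.ker g').subtype (Submodule.injective_subtype _) ?_)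
    have : (LinearMap.ker q).map (LinearMap.ker g').subtype = LinearMap.ker ρ := by
      ext x
      simp only [Submodule.mem_map, LinearMap.mem_ker, Submodule.subtype_apply]
      refine ⟨?_, fun hx => ⟨⟨x, by simp [g', hx]⟩, Subtype.ext hx, rfl⟩⟩
      rintro ⟨⟨y, hy⟩, hy', rfl⟩
      exact congrArg Subtype.val hy'
    rw [this]
    exact Module.FinitePresentation.fg_ker ρ hρ
  obtain ⟨a, f, hf⟩ := Module.Finite.exists_fin' P (LinearMap.ker (g.restrictScalars P))
  have hfk := Module.FinitePresentation.fg_ker f hf
  let fB : (Fin a → B) →ₗ[B] LinearMap.ker g :=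
    Fintype.linearCombination B fun i => (⟨(f (Pi.single i 1)).1, (f (Pi.single i 1)).2⟩ : LinearMap.ker g)
  let ρa : (Fin a → P) →ₗ[P] (Fin a → B) := LinearMap.piMap fun _ => Algebra.linearMap P B
  have hρa : Function.Surjective ρa := Function.Surjective.piMap fun _ => hπ
  have hfac : ∀ x, (fB (ρa x)).1 = (f x).1 := by
    intro x
    conv_rhs => rw [pi_eq_sum_univ' x, map_sum]
    simp only [fB, Fintype.linearCombination_apply, Submodule.coe_sum, Submodule.coe_smul, map_smul]
    refine Finset.sum_congr rfl fun i _ => ?_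
    exact algebraMap_smul B (x i) (f (Pi.single i 1)).1
  refine Module.finitePresentation_of_surjective fB ?_ ?_
  · rintro ⟨y, hy⟩
    obtain ⟨x, hx⟩ := hf ⟨y, hy⟩
    exact ⟨ρa x, Subtype.ext (by rw [hfac, hx])⟩
  · obtain ⟨s, hs⟩ := hfk
    refine ⟨s.image ρa, ?_⟩
    rw [Finset.coe_image]
    refine le_antisymm (Submodule.span_le.mpr ?_) fun z hz => ?_
    · rintro _ ⟨x, hx, rfl⟩
      have : f x = 0 := LinearMap.mem_ker.mp (hs ▸ Submodule.subset_span hx)
      exact Subtype.ext (by rw [hfac, this]; rfl)
    · obtain ⟨x, rfl⟩ := hρa z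
      have h0 : f x = 0 := Subtype.ext (by rw [← hfac, LinearMap.mem_ker.mp hz]; rfl)
      have : x ∈ Submodule.span P (s : Set (Fin a → P)) := hs ▸ LinearMap.mem_ker.mpr h0
      have h1 := Submodule.mem_map_of_mem (f := ρa) this
      rw [Submodule.map_span] at h1
      exact Submodule.span_le_restrictScalars P B _ h1

end Groth.Agent.FlatRes
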